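import Mathlib

/-!
Closed subsets of affine space stable under the elementary automorphisms `xᵢ ↦ xᵢ + xⱼ ^ d`.
-/

set_option autoImplicit false

open MvPolynomial

universe u

namespace Groth.Agent.ElemAut

variable {k : Type u} [Field k] {n : ℕ}

/-- The `K`-points of the zero locus of `I`. -/
def pts (I : Ideal (MvPolynomial (Fin n) k)) (K : Type u) [Field K] [Algebra k K] :
    Set (Fin n → K) := {a | ∀ f ∈ I, aeval a f = 0}

/-- The elementary substitution. -/
noncomputable def subst (i j : Fin n) (d : ℕ) :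
    MvPolynomial (Fin n) k →ₐ[k] MvPolynomial (Fin n) k :=
  aeval (Function.update X i (X i + X j ^ d) : Fin n → MvPolynomial (Fin n) k)

theorem mem_zeroLocus_point {K : Type u} [Field K] [Algebra k K]
    (I : Ideal (MvPolynomial (Fin n) k)) (a : Fin n → K) :
    (⟨RingHom.ker (aeval (R := k) a), RingHom.ker_isPrime _⟩ :
        PrimeSpectrum (MvPolynomial (Fin n) k)) ∈ PrimeSpectrum.zeroLocus (I : Set _) ↔
      a ∈ pts I K := by
  rw [PrimeSpectrum.mem_zeroLocus]
  exact ⟨fun h f hf => h hf, fun h f hf => h f hf⟩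

/-- Stability of the points. -/
theorem update_mem_pts_iff (I : Ideal (MvPolynomial (Fin n) k))
    (hI : ∀ (i j : Fin n), i ≠ j → ∀ (d : ℕ) (P : PrimeSpectrum (MvPolynomial (Fin n) k)),
      PrimeSpectrum.comap (subst (k := k) i j d).toRingHom P ∈
          PrimeSpectrum.zeroLocus (I : Set _) ↔
        P ∈ PrimeSpectrum.zeroLocus (I : Set _))
    (K : Type u) [Field K] [Algebra k K] (i j : Fin n) (hij : i ≠ j) (d : ℕ) (a : Fin n → K) :
    Function.update a i (a i + a j ^ d) ∈ pts I K ↔ a ∈ pts I K := by
  rw [← mem_zeroLocus_point, ← mem_zeroLocus_point,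
    ← hI i j hij d ⟨RingHom.ker (aeval (R := k) a), RingHom.ker_isPrime _⟩]
  have hcomp : (aeval (R := k) a).comp (subst i j d) =
      aeval (Function.update a i (a i + a j ^ d)) := by
    refine MvPolynomial.algHom_ext fun l => ?_
    rw [AlgHom.comp_apply, subst, aeval_X, aeval_X]
    by_cases hl : l = i
    · subst hl; simp
    · simp [hl]
  refine Iff.of_eq (congrArg (fun P => P ∈ PrimeSpectrum.zeroLocus
    (I : Set (MvPolynomial (Fin n) k))) (PrimeSpectrum.ext ?_))
  show RingHom.ker (aeval (Function.update a i (a i + a j ^ d))) =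
    Ideal.comap (subst (k := k) i j d).toRingHom (RingHom.ker (aeval (R := k) a))
  rw [← hcomp]
  rfl

/-- Translations by `g(a j)`. -/
theorem add_aeval_mem (I : Ideal (MvPolynomial (Fin n) k))
    (hI : ∀ (i j : Fin n), i ≠ j → ∀ (d : ℕ) (P : PrimeSpectrum (MvPolynomial (Fin n) k)),
      PrimeSpectrum.comap (subst (k := k) i j d).toRingHom P ∈
          PrimeSpectrum.zeroLocus (I : Set _) ↔
        P ∈ PrimeSpectrum.zeroLocus (I : Set _))
    {K : Type u} [Field K] [Algebra k K] (i j : Fin n) (hij : i ≠ j) (b : K)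
    (g : Polynomial ℤ) (a : Fin n → K) (ha : a j = b) :
    Function.update a i (a i + Polynomial.aeval b g) ∈ pts I K ↔ a ∈ pts I K := by
  let G : AddSubgroup K :=
    { carrier := {s | ∀ a : Fin n → K, a j = b →
        (Function.update a i (a i + s) ∈ pts I K ↔ a ∈ pts I K)}
      zero_mem' := fun a _ => by simp
      add_mem' := fun {s t} hs ht a ha => by
        have h1 := ht (Function.update a i (a i + s))
          (by rw [Function.update_of_ne hij.symm]; exact ha)
        rw [Function.update_self, Function.update_idem, add_assoc] at h1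
        exact h1.trans (hs a ha)
      neg_mem' := fun {s} hs a ha => by
        have h1 := hs (Function.update a i (a i + -s))
          (by rw [Function.update_of_ne hij.symm]; exact ha)
        rw [Function.update_self, Function.update_idem, neg_add_cancel_right,
          Function.update_eq_self] at h1
        exact h1.symm }
  suffices h : Polynomial.aeval b g ∈ G from h a ha
  induction g using Polynomial.induction_on' with
  | add p q hp hq => rw [map_add]; exact G.add_mem hp hq
  | monomial d c =>
    rw [Polynomial.aeval_monomial, eq_intCast, ← zsmul_eq_mul]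
    exact G.zsmul_mem (fun a ha => ha ▸ update_mem_pts_iff I hI K i j hij d a) c

/-- A coordinate can be changed arbitrarily, given a pivot with infinitely many translations. -/
theorem update_mem_pts (I : Ideal (MvPolynomial (Fin n) k))
    (hI : ∀ (i j : Fin n), i ≠ j → ∀ (d : ℕ) (P : PrimeSpectrum (MvPolynomial (Fin n) k)),
      PrimeSpectrum.comap (subst (k := k) i j d).toRingHom P ∈
          PrimeSpectrum.zeroLocus (I : Set _) ↔
        P ∈ PrimeSpectrum.zeroLocus (I : Set _))
    {K : Type u} [Field K] [Algebra k K] (i j : Fin n) (hij : i ≠ j) (a : Fin n → K)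
    (ha : a ∈ pts I K)
    (hinf : (Set.range fun g : Polynomial ℤ => Polynomial.aeval (a j) g).Infinite) (v : K) :
    Function.update a i v ∈ pts I K := by
  intro f hf
  set p : Polynomial K := aeval (Function.update (fun l => Polynomial.C (a l)) i
    (Polynomial.C (a i) + Polynomial.X) : Fin n → Polynomial K) f with hp
  have hev : ∀ s, Polynomial.eval s p = aeval (Function.update a i (a i + s)) f := by
    intro s
    have h2 : ((Polynomial.aeval (R := K) s).restrictScalars k).comp
        (aeval (Function.update (fun l => Polynomial.C (a l)) i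
          (Polynomial.C (a i) + Polynomial.X) : Fin n → Polynomial K)) =
        aeval (Function.update a i (a i + s)) := by
      refine MvPolynomial.algHom_ext fun l => ?_
      simp only [AlgHom.comp_apply, AlgHom.restrictScalars_apply, aeval_X]
      by_cases hl : l = i
      · subst hl; simp
      · simp [hl]
    rw [← h2, hp]
    simp [Polynomial.coe_aeval_eq_eval]
  have hp0 : p = 0 := by
    apply Polynomial.eq_zero_of_infinite_isRoot
    refine hinf.mono ?_
    rintro _ ⟨g, rfl⟩
    show Polynomial.eval _ p = 0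
    rw [hev]
    exact (add_aeval_mem I hI i j hij (a j) g a rfl).mpr ha f hf
  have h3 := hev (v - a i)
  rw [hp0, Polynomial.eval_zero, add_sub_cancel] at h3
  exact h3.symm

/-- A point with one good coordinate and infinitely many good values forces `I = 0`. -/
theorem eq_bot_of_pivot (hn : 2 ≤ n) (I : Ideal (MvPolynomial (Fin n) k))
    (hI : ∀ (i j : Fin n), i ≠ j → ∀ (d : ℕ) (P : PrimeSpectrum (MvPolynomial (Fin n) k)),
      PrimeSpectrum.comap (subst (k := k) i j d).toRingHom P ∈
          PrimeSpectrum.zeroLocus (I : Set _) ↔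
        P ∈ PrimeSpectrum.zeroLocus (I : Set _))
    {K : Type u} [Field K] [Algebra k K] (S : Set K) (hS : S.Infinite)
    (hinf : ∀ b ∈ S, (Set.range fun g : Polynomial ℤ => Polynomial.aeval b g).Infinite)
    (a : Fin n → K) (ha : a ∈ pts I K) (j : Fin n) (hj : a j ∈ S) : I = ⊥ := by
  classical
  haveI : Nontrivial (Fin n) := Fin.nontrivial_iff_two_le.mpr hn
  obtain ⟨i, hij⟩ := exists_ne j
  have hgrid : ∀ b : Fin n → K, (∀ l, b l ∈ S) → b ∈ pts I K := by
    intro b hb
    set a₁ := Function.update a i (b i) with ha₁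
    have h1 : a₁ ∈ pts I K := update_mem_pts I hI i j hij a ha (hinf _ hj) _
    have key : ∀ s : Finset (Fin n), i ∉ s →
        (fun l => if l ∈ s then b l else a₁ l) ∈ pts I K := by
      intro s
      induction s using Finset.induction_on with
      | empty => intro _; simpa using h1
      | insert c s hc ih =>
        intro his
        rw [Finset.mem_insert, not_or] at his
        have h2 := update_mem_pts I hI c i (Ne.symm his.1) _ (ih his.2)
          (by simpa [his.2, ha₁] using hinf _ (hb i)) (b c)
        convert h2 using 1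
        funext l
        by_cases hl : l = c
        · subst hl; simp
        · simp [hl]
    have h3 := key (Finset.univ.erase i) (Finset.notMem_erase _ _)
    convert h3 using 1
    funext l
    by_cases hl : l = i
    · subst hl; simp [ha₁]
    · simp [hl]
  rw [eq_bot_iff]
  intro f hf
  rw [Ideal.mem_bot]
  apply MvPolynomial.map_injective (algebraMap k K) (algebraMap k K).injective
  rw [map_zero]
  refine MvPolynomial.funext_set (fun _ => S) (fun _ => hS) fun x hx => ?_
  rw [eval_map, map_zero, ← aeval_def]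
  exact hgrid x (fun l => hx l (Set.mem_univ l)) f hf

/-- A finite generated subring forces periodicity of Frobenius. -/
theorem exists_pow_eq_of_finite_range {K : Type u} [Field K] (p : ℕ) [Fact p.Prime] [CharP K p]
    (b : K) (h : (Set.range fun g : Polynomial ℤ => Polynomial.aeval b g).Finite) :
    ∃ m : ℕ, 0 < m ∧ b ^ p ^ m = b := by
  have hmem : ∀ r : ℕ, b ^ p ^ r ∈ Set.range fun g : Polynomial ℤ => Polynomial.aeval b g :=
    fun r => ⟨Polynomial.X ^ p ^ r, by simp⟩
  haveI := h.to_subtype
  obtain ⟨r₁, r₂, hne, he⟩ := Finite.exists_ne_map_eq_of_infinite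
    (fun r : ℕ => (⟨b ^ p ^ r, hmem r⟩ : ↥(Set.range fun g : Polynomial ℤ => Polynomial.aeval b g)))
  obtain ⟨r, r', hrr, heq⟩ : ∃ r r', r < r' ∧ b ^ p ^ r = b ^ p ^ r' := by
    rcases lt_or_gt_of_ne hne with h1 | h1
    · exact ⟨r₁, r₂, h1, congrArg Subtype.val he⟩
    · exact ⟨r₂, r₁, h1, (congrArg Subtype.val he).symm⟩
  obtain ⟨m, rfl⟩ := Nat.exists_eq_add_of_lt hrr
  refine ⟨m + 1, Nat.succ_pos m, ?_⟩
  apply (iterateFrobenius K p r).injective
  simp only [iterateFrobenius_def, ← pow_mul, ← pow_add]
  rw [show m + 1 + r = r + m + 1 by omega]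
  exact heq.symm

/-- The nonperiodic elements form an infinite set if there is one. -/
theorem infinite_nonperiodic {K : Type u} [Field K] (p : ℕ) [Fact p.Prime] [CharP K p] (b : K)
    (hb : ¬ ∃ m : ℕ, 0 < m ∧ b ^ p ^ m = b) :
    {c : K | ¬ ∃ m : ℕ, 0 < m ∧ c ^ p ^ m = c}.Infinite := by
  intro hfin
  have hR : (Set.range fun g : Polynomial ℤ => Polynomial.aeval b g).Infinite :=
    fun h => hb (exists_pow_eq_of_finite_range p b h)
  obtain ⟨c, -, hc⟩ := (hR.sdiff (hfin.union (hfin.image fun y => y - b))).nonempty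
  rw [Set.mem_union, not_or] at hc
  obtain ⟨m, hm, hcm⟩ : ∃ m : ℕ, 0 < m ∧ c ^ p ^ m = c := not_not.mp hc.1
  obtain ⟨m', hm', hbcm⟩ : ∃ m : ℕ, 0 < m ∧ (c + b) ^ p ^ m = c + b :=
    not_not.mp fun hcon => hc.2 ⟨c + b, hcon, add_sub_cancel_right c b⟩
  have hit : ∀ (x : K) (r t : ℕ), x ^ p ^ r = x → x ^ p ^ (r * t) = x := by
    intro x r t hx
    induction t with
    | zero => simp
    | succ t ih => rw [Nat.mul_succ, pow_add, pow_mul, ih, hx]
  have h1 := hit c m m' hcm
  have h2 := hit (c + b) m' m hbcm
  rw [mul_comm m' m, add_pow_char_pow, h1] at h2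
  exact hb ⟨m * m', Nat.mul_pos hm hm', add_left_cancel h2⟩


/-- Open subsets stable under all elementary automorphisms. -/
theorem eq_univ_or_finite (hn : 2 ≤ n) (W : Set (PrimeSpectrum (MvPolynomial (Fin n) k))) (hWo : IsOpen W)
    (hW : W.Nonempty)
    (hinv : ∀ (i j : Fin n), i ≠ j → ∀ (d : ℕ) (P : PrimeSpectrum (MvPolynomial (Fin n) k)),
      PrimeSpectrum.comap (subst (k := k) i j d).toRingHom P ∈ W ↔ P ∈ W) :
    W = Set.univ ∨ ∃ p : ℕ, p.Prime ∧ CharP k p ∧ Wᶜ.Finite ∧
      ∀ x : PrimeSpectrum (MvPolynomial (Fin n) k), x ∉ W → IsClosed ({x} : Set (PrimeSpectrum (MvPolynomial (Fin n) k))) ∧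
        ∀ i : Fin n, ∃ m : ℕ, 0 < m ∧
          (algebraMap (MvPolynomial (Fin n) k) x.asIdeal.ResidueField (MvPolynomial.X i)) ^ (p ^ m) =
            algebraMap (MvPolynomial (Fin n) k) x.asIdeal.ResidueField (MvPolynomial.X i) := by
  classical
  by_cases hWtop : W = Set.univ
  · exact Or.inl hWtop
  right
  obtain ⟨I, hI⟩ := (PrimeSpectrum.isClosed_iff_zeroLocus_ideal _).mp hWo.isClosed_compl
  have hWz : ∀ P, P ∉ W ↔
      P ∈ PrimeSpectrum.zeroLocus (I : Set (MvPolynomial (Fin n) k)) := fun P => by
    rw [← hI]; rfl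
  have hstab : ∀ (i j : Fin n), i ≠ j → ∀ (d : ℕ) (P : PrimeSpectrum (MvPolynomial (Fin n) k)),
      PrimeSpectrum.comap (subst (k := k) i j d).toRingHom P ∈
          PrimeSpectrum.zeroLocus (I : Set (MvPolynomial (Fin n) k)) ↔
        P ∈ PrimeSpectrum.zeroLocus (I : Set (MvPolynomial (Fin n) k)) := by
    intro i j hij d P
    rw [← hWz, ← hWz]
    exact not_congr (hinv i j hij d P)
  have hI0 : I ≠ ⊥ := by
    rintro rfl
    obtain ⟨w, hw⟩ := hW
    refine (hWz w).mpr ?_ hw
    rw [PrimeSpectrum.mem_zeroLocus]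
    intro f hf
    rw [(Ideal.mem_bot.mp hf : f = 0)]
    exact (w.asIdeal).zero_mem
  obtain ⟨z, hz⟩ : ∃ z, z ∉ W := by
    by_contra hcon
    push Not at hcon
    exact hWtop (Set.eq_univ_of_forall hcon)
  have hpt : ∀ x : PrimeSpectrum (MvPolynomial (Fin n) k),
      x ∈ PrimeSpectrum.zeroLocus (I : Set (MvPolynomial (Fin n) k)) →
      (fun l => algebraMap (MvPolynomial (Fin n) k) x.asIdeal.ResidueField (MvPolynomial.X l)) ∈
        pts I x.asIdeal.ResidueField := by
    intro x hx f hf
    have h1 : MvPolynomial.aeval (R := k) (fun l => algebraMap (MvPolynomial (Fin n) k)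
        x.asIdeal.ResidueField (MvPolynomial.X l)) =
        IsScalarTower.toAlgHom k (MvPolynomial (Fin n) k) x.asIdeal.ResidueField :=
      MvPolynomial.algHom_ext fun l => by simp
    rw [h1]
    exact Ideal.algebraMap_residueField_eq_zero.mpr (hx hf)
  rcases CharP.char_is_prime_or_zero k (ringChar k) with hp | h0
  swap
  · exfalso
    haveI : CharP k 0 := h0 ▸ ringChar.charP k
    haveI : CharP z.asIdeal.ResidueField 0 :=
      charP_of_injective_algebraMap (algebraMap k _).injective 0
    haveI : CharZero z.asIdeal.ResidueField := CharP.charP_to_charZero _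
    exact hI0 (eq_bot_of_pivot hn I hstab Set.univ Set.infinite_univ
      (fun b _ => (Set.infinite_range_of_injective Int.cast_injective).mono
        (by rintro _ ⟨c, rfl⟩; exact ⟨Polynomial.C c, by simp⟩))
      _ (hpt z ((hWz z).mp hz)) ⟨0, by omega⟩ (Set.mem_univ _))
  haveI : Fact (ringChar k).Prime := ⟨hp⟩
  haveI : CharP k (ringChar k) := ringChar.charP k
  have hper : ∀ x : PrimeSpectrum (MvPolynomial (Fin n) k),
      x ∉ W →
      ∀ i : Fin n, ∃ m : ℕ, 0 < m ∧
        (algebraMap (MvPolynomial (Fin n) k) x.asIdeal.ResidueField (MvPolynomial.X i)) ^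
            (ringChar k ^ m) =
          algebraMap (MvPolynomial (Fin n) k) x.asIdeal.ResidueField (MvPolynomial.X i) := by
    intro x hx i
    haveI : CharP x.asIdeal.ResidueField (ringChar k) :=
      charP_of_injective_algebraMap (algebraMap k _).injective _
    by_contra hcon
    exact hI0 (eq_bot_of_pivot hn I hstab
      {c | ¬ ∃ m : ℕ, 0 < m ∧ c ^ ringChar k ^ m = c}
      (infinite_nonperiodic (ringChar k) _ hcon)
      (fun b hb h => hb (exists_pow_eq_of_finite_range (ringChar k) b h))
      _ (hpt x ((hWz x).mp hx)) i hcon)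
  have hclosed : ∀ x : PrimeSpectrum (MvPolynomial (Fin n) k),
      x ∉ W →
      IsClosed ({x} : Set (PrimeSpectrum (MvPolynomial (Fin n) k))) := by
    intro x hx
    refine (PrimeSpectrum.isClosed_singleton_iff_isMaximal x).mpr ?_
    let P : Ideal (MvPolynomial (Fin n) k) := x.asIdeal
    haveI : P.IsPrime := x.isPrime
    haveI : Algebra.IsIntegral k (MvPolynomial (Fin n) k ⧸ P) := by
      refine ⟨fun y => ?_⟩
      obtain ⟨f, rfl⟩ := Ideal.Quotient.mk_surjective y
      induction f using MvPolynomial.induction_on with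
      | C a =>
        exact (isIntegral_algebraMap :
          IsIntegral k (algebraMap k (MvPolynomial (Fin n) k ⧸ P) a))
      | add p q hp hq => rw [map_add]; exact hp.add hq
      | mul_X p i hp =>
        rw [map_mul]
        refine hp.mul ?_
        obtain ⟨m, hm, h1⟩ := hper x hx i
        refine ⟨Polynomial.X ^ (ringChar k ^ m) - Polynomial.X, ?_, ?_⟩
        · refine Polynomial.monic_X_pow_sub ?_
          rw [Polynomial.degree_X]
          exact_mod_cast Nat.one_lt_pow hm.ne' (Fact.out : (ringChar k).Prime).one_lt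
        · rw [Polynomial.eval₂_sub, Polynomial.eval₂_X_pow, Polynomial.eval₂_X, ← map_pow,
            ← map_sub, Ideal.Quotient.eq_zero_iff_mem]
          refine Ideal.algebraMap_residueField_eq_zero.mp ?_
          rw [map_sub, map_pow]
          exact sub_eq_zero.mpr h1
    exact Ideal.Quotient.maximal_of_isField P
      (isField_of_isIntegral_of_isField' (R := k) (Field.toIsField k))
  refine ⟨ringChar k, hp, inferInstance, ?_, fun x hx => ⟨hclosed x hx, hper x hx⟩⟩
  obtain ⟨S, hSfin, hScl, hSirr, hSeq⟩ :=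
    TopologicalSpace.NoetherianSpace.exists_finite_set_isClosed_irreducible hWo.isClosed_compl
  rw [hSeq]
  refine hSfin.sUnion fun t ht => ?_
  obtain ⟨g, hg⟩ := QuasiSober.sober (hSirr t ht) (hScl t ht)
  have hgZ : g ∉ W := by
    have h2 : g ∈ ⋃₀ S := ⟨t, ht, hg.mem⟩
    rw [← hSeq] at h2
    exact h2
  rw [← hg.def, (hclosed g hgZ).closure_eq]
  exact Set.finite_singleton g

end Groth.Agent.ElemAut
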